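import Cfsg.Agent.H28.RG.Cent
import Cfsg.Agent.H579.RG.LongLR
import Cfsg.Agent.H169.RG.LRG
import Cfsg.Agent.H694.RG.Trans

/-!
# S3509, exceptional groups: the data `YData` of the long root elements, all types (helper452)

* `lr_iff` : the long root elements of helper169 and of helper579 agree;
* `ydata` : `YData m.ι (fixedSubgroup m.σ) r (LR m) (Um m j (D.nroots - 1))` for all types with a table
  (`H579.RG.ltab_G2`, `ltab_D4`, `ltab_F4`, `ltab_E6`, `ltab_E7`, `ltab_E8`), twisted or not.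
-/

set_option autoImplicit false
set_option linter.unusedSectionVars false

namespace Cfsg.Agent.H452.TD

open CoxeterSystem Cfsg Cfsg.Lie Cfsg.Lie.ChevalleyDatum
open Cfsg.Agent.ChevalleyStructure Cfsg.Agent.ChevalleyStructure.Elts Cfsg.Agent.ChevalleyStructure.CoxeterGeom
  Cfsg.Agent.ChevalleyStructure.CoxeterGeomTypes Cfsg.Agent.ChevalleyStructure.NPerm
open Cfsg.Agent.Tits.Roots Cfsg.Agent.Tits.Core Cfsg.Agent.Nodes Cfsg.Agent.Nodes.Reps Cfsg.Agent.Nodes.BNOf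
  Cfsg.Agent.Nodes.RGDChev Cfsg.Agent.Nodes.LeviDec
open Cfsg.Agent.KFacts.RgdField Cfsg.Agent.KFacts.RgdChevCoord Cfsg.Agent.BpExc.TorCent Cfsg.Agent.BpExc.TorChev
  Cfsg.Agent.BpExc.TowChev Cfsg.Agent.GpExc.Field Cfsg.Agent.BpExc Cfsg.Agent.BpExc.Pair
open Cfsg.Agent.ChevalleyStructure.RootVecTab Cfsg.Agent.ChevalleyStructure.RootVec
open Cfsg.Agent.H469.Exc Cfsg.Agent.H469.Exc.SigFr Cfsg.Agent.H316.U6 Cfsg.Agent.H368.RG Cfsg.Agent.H380.RC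
open Cfsg.Agent.H579.RG Cfsg.Agent.H694.RG
open Cfsg.Agent.H225.PPow Cfsg.Agent.KFacts.ChevTwoInst

universe v

variable {D : ChevalleyDatum} {l : ℕ} {M : CoxeterMatrix (Fin l)} {hp : IsType D l M} {j : ℕ}
  {r q : ℕ} [hr : Fact r.Prime] {K₀ : Type v} [Group K₀] (m : MData hp r q K₀)

/-- the two definitions of long root elements agree -/
theorem lr_iff (T : LTab D l j) {v : ↥(D.group (KK r))} : H169.RG.LR m v ↔ Vm m v := by
  have hth : D.nroots - 1 < D.nroots := T.1.th_lt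
  constructor
  · rintro ⟨h1, X, ⟨y, hy, rfl⟩, hv⟩
    obtain ⟨x, ⟨hx, hxσ⟩, rfl⟩ := hv
    obtain ⟨t, rfl⟩ := (mem_XX_vec hp hth).1 hx
    refine ⟨h1, y, hy, t, ?_, ?_⟩
    · rw [xc_vec hp hth]
      exact hxσ
    · rw [xc_vec hp hth]
      rfl
  · rintro ⟨h1, y, hy, t, ht, rfl⟩
    refine ⟨h1, _, ⟨y, hy, rfl⟩, ?_⟩
    refine ⟨_, ⟨?_, ht⟩, rfl⟩
    rw [xc_vec hp hth]
    exact (mem_XX_vec hp hth).2 ⟨t, rfl⟩

/-- **The long root data**, for the long root elements of helper169. -/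
theorem long_root_LR (T : LTab D l j) : LRData (fixedSubgroup m.σ) r (H169.RG.LR m) (Um m j (D.nroots - 1)) ∧
    (∀ v, H169.RG.LR m v → v ∈ m.ι.range) ∧ (∀ v, H169.RG.LR m v → Um m j (D.nroots - 1) v ≤ m.ι.range) ∧
    (∀ y ∈ fixedSubgroup m.σ, y ^ r = 1 → y ∈ m.ι.range) := by
  obtain ⟨h1, h2, h3, h4⟩ := long_root m T
  exact ⟨LRmono h1 fun v hv => (lr_iff m T).1 hv, fun v hv => h2 v ((lr_iff m T).1 hv),
    fun v hv => h3 v ((lr_iff m T).1 hv), h4⟩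

/-- **`O_r(C_{ι K₀}(s)) = 1`** for the elements `s ∈ Y^σ` of order prime to `r`. -/
theorem core {s : ↥(D.group (KK r))} (hs : m.σ s = s) {d : ℕ} (hd : d.Coprime r) (hsd : s ^ d = 1) :
    pCore r ↥(m.ι.range ⊓ Subgroup.centralizer {s}) = ⊥ := by
  have hd0 : d ≠ 0 := by
    rintro rfl
    exact hr.out.one_lt.ne' (Nat.coprime_zero_left r |>.1 hd)
  obtain ⟨f⟩ := H169.RG.exists_torForm m hs hd0 hd hsd
  have hfin := m.fin
  have : Finite ↥(fixC m.σ s) := Finite.of_injective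
    (fun y : ↥(fixC m.σ s) => (⟨(y : ↥(D.group (KK r))), (mem_fixC.1 y.2).1⟩ : ↥(fixedSubgroup m.σ)))
    fun a b h => Subtype.ext (congrArg (fun z : ↥(fixedSubgroup m.σ) => (z : ↥(D.group (KK r)))) h)
  have e : m.ι.range ⊓ Subgroup.centralizer {s} = m.ι.range ⊓ fixC m.σ s := by
    ext y
    rw [Subgroup.mem_inf, Subgroup.mem_inf, Subgroup.mem_centralizer_singleton_iff, mem_fixC]
    constructor
    · rintro ⟨⟨a, rfl⟩, h2⟩
      exact ⟨⟨a, rfl⟩, m.fix a, h2⟩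
    · rintro ⟨h1, -, h2⟩
      exact ⟨h1, h2⟩
  rw [e]
  refine H28.RG.Cent.core_of_normal hp M.toCoxeterSystem (locFin r) m.he m.frob m.fr hs (z := f.z) (t := f.t) ?_ f.mem hsd
    hd.symm ?_
  · have h1 := f.eq
    calc f.z⁻¹ * s * f.z = f.z⁻¹ * (f.z * f.t * f.z⁻¹) * f.z := by rw [← h1]
      _ = f.t := by group
  · rintro c hc _ ⟨x, rfl⟩
    obtain ⟨x', hx'⟩ := m.norm c (mem_fixC.1 hc).1 x
    exact ⟨x', hx'⟩

section ydata

variable {K₁ : Type} [Group K₁]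

/-- **The data in `Y`, all types.** -/
theorem ydata_all (m : MData hp r q K₁) (T : LTab D l j) :
    YData m.ι (fixedSubgroup m.σ) r (H169.RG.LR m) (Um m j (D.nroots - 1)) := by
  obtain ⟨h1, h2, h3, h4⟩ := long_root_LR m T
  exact ⟨h1, h2, h3, h4, fun s hs ⟨d, hd, hsd⟩ => core m hs hd hsd⟩

/-- G₂ -/
theorem ydata_G2 {M : CoxeterMatrix (Fin 2)} {hp : IsType chevG2 2 M} (m : MData hp r q K₁) :
    ∃ U, YData m.ι (fixedSubgroup m.σ) r (H169.RG.LR m) U := ⟨_, ydata_all m ltab_G2⟩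

/-- D₄, ³D₄ -/
theorem ydata_D4 {M : CoxeterMatrix (Fin 4)} {hp : IsType chevD4 4 M} (m : MData hp r q K₁) :
    ∃ U, YData m.ι (fixedSubgroup m.σ) r (H169.RG.LR m) U := ⟨_, ydata_all m ltab_D4⟩

/-- F₄ -/
theorem ydata_F4 {M : CoxeterMatrix (Fin 4)} {hp : IsType chevF4 4 M} (m : MData hp r q K₁) :
    ∃ U, YData m.ι (fixedSubgroup m.σ) r (H169.RG.LR m) U := ⟨_, ydata_all m ltab_F4⟩

/-- E₆, ²E₆ -/
theorem ydata_E6 {M : CoxeterMatrix (Fin 6)} {hp : IsType chevE6 6 M} (m : MData hp r q K₁) :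
    ∃ U, YData m.ι (fixedSubgroup m.σ) r (H169.RG.LR m) U := ⟨_, ydata_all m ltab_E6⟩

/-- E₇ -/
theorem ydata_E7 {M : CoxeterMatrix (Fin 7)} {hp : IsType chevE7 7 M} (m : MData hp r q K₁) :
    ∃ U, YData m.ι (fixedSubgroup m.σ) r (H169.RG.LR m) U := ⟨_, ydata_all m ltab_E7⟩

/-- E₈ -/
theorem ydata_E8 {M : CoxeterMatrix (Fin 8)} {hp : IsType chevE8 8 M} (m : MData hp r q K₁) :
    ∃ U, YData m.ι (fixedSubgroup m.σ) r (H169.RG.LR m) U := ⟨_, ydata_all m ltab_E8⟩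

end ydata

end Cfsg.Agent.H452.TD
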